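import Groth.Prelude.Def_W4stkalgstUpp
import Groth.Agent.Fib.Basic
import Mathlib.CategoryTheory.Localization.CalculusOfFractions
import Mathlib.CategoryTheory.Limits.Shapes.Pullback.IsPullback.Basic
import Mathlib.CategoryTheory.Limits.Preserves.Shapes.Equalizers

/-! # The categories `u_pp 𝒮` and `u_p 𝒮` -/

set_option autoImplicit false
set_option linter.all false
set_option backward.isDefEq.respectTransparency false
set_option backward.isDefEq.respectTransparency.types false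

universe v₃ u₃ v₂ u₂ v u

open CategoryTheory CategoryTheory.Limits CategoryTheory.Functor

namespace Groth.Agent.StkUpp

variable {C : Type u} [Category.{v} C] {D : Type u₂} [Category.{v₂} D] (u : C ⥤ D)
  (𝒮 : BasedCategory.{v₃, u₃} C)

theorem exists_cart [𝒮.p.IsFibered] (x : 𝒮.obj) {V : C} (h : V ⟶ 𝒮.p.obj x) :
    ∃ (y : 𝒮.obj) (φ : y ⟶ x) (e : 𝒮.p.obj y = V),
      𝒮.p.IsStronglyCartesian (𝒮.p.map φ) φ ∧ 𝒮.p.map φ = eqToHom e ≫ h := by
  obtain ⟨y, φ, hφ⟩ := IsPreFibered.exists_isCartesian 𝒮.p rfl h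
  haveI := hφ
  haveI : 𝒮.p.IsStronglyCartesian h φ := inferInstance
  obtain rfl : 𝒮.p.obj y = V := IsHomLift.domain_eq 𝒮.p h φ
  obtain rfl : h = 𝒮.p.map φ := IsHomLift.eq_of_isHomLift 𝒮.p h φ
  exact ⟨y, φ, rfl, inferInstance, by simp⟩

theorem hasCalculus [𝒮.p.IsFibered]
    [HasPullbacks C] [HasEqualizers C] [PreservesLimitsOfShape WalkingCospan u]
    [PreservesLimitsOfShape WalkingParallelPair u] : (Stk.uppR u 𝒮).HasRightCalculusOfFractions where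
  id_mem a := ⟨by rw [Stk.UppObj.id_top]; infer_instance,
    by rw [Stk.UppObj.id_bot]; infer_instance⟩
  comp_mem f g hf hg := by
    haveI := hf.1; haveI := hg.1; haveI := hf.2; haveI := hg.2
    refine ⟨?_, ?_⟩
    · rw [Stk.UppObj.comp_top, Functor.map_comp]; infer_instance
    · rw [Stk.UppObj.comp_bot]; infer_instance
  exists_rightFraction a c φ := by
    obtain ⟨hs1, hs2⟩ := φ.hs
    haveI := hs1; haveI := hs2
    let h1 := 𝒮.p.map φ.f.top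
    let h2 := 𝒮.p.map φ.s.top
    obtain ⟨y, t, e, ht, hte⟩ := exists_cart 𝒮 a.x (pullback.fst h1 h2)
    haveI := ht
    let k : 𝒮.p.obj y ⟶ 𝒮.p.obj c.x := eqToHom e ≫ pullback.snd h1 h2
    have hk : 𝒮.p.map (t ≫ φ.f.top) = k ≫ h2 := by
      rw [Functor.map_comp, hte, Category.assoc, pullback.condition]; simp [k]
    obtain ⟨χ, ⟨hχl, hχ⟩, -⟩ := Functor.IsStronglyCartesian.universal_property 𝒮.p h2 φ.s.top k
      (𝒮.p.map (t ≫ φ.f.top)) hk (t ≫ φ.f.top)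
    haveI := hχl
    have hpχ : k = 𝒮.p.map χ := IsHomLift.eq_of_isHomLift 𝒮.p k χ
    have sq := (IsPullback.of_hasPullback h1 h2).map u
    let q : a.V ⟶ u.obj (pullback h1 h2) := sq.lift a.φ (φ.f.bot ≫ inv φ.s.bot ≫ c.φ) (by
      simp only [Category.assoc, h1, h2]
      rw [φ.f.w, φ.s.w, IsIso.inv_hom_id_assoc])
    let y' : Stk.UppObj u 𝒮 := ⟨y, a.V, q ≫ u.map (eqToHom e.symm)⟩
    let ts : y' ⟶ a := ⟨t, 𝟙 _, by
      show (q ≫ u.map (eqToHom e.symm)) ≫ u.map (𝒮.p.map t) = 𝟙 _ ≫ a.φ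
      rw [hte, Category.assoc, ← u.map_comp, eqToHom_trans_assoc, eqToHom_refl, Category.id_comp,
        Category.id_comp, sq.lift_fst]⟩
    let tf : y' ⟶ c := ⟨χ, φ.f.bot ≫ inv φ.s.bot, by
      show (q ≫ u.map (eqToHom e.symm)) ≫ u.map (𝒮.p.map χ) = (φ.f.bot ≫ inv φ.s.bot) ≫ c.φ
      rw [← hpχ, Category.assoc, ← u.map_comp]
      simp only [k, eqToHom_trans_assoc, eqToHom_refl, Category.id_comp]
      rw [sq.lift_snd, Category.assoc]⟩
    refine ⟨⟨ts, ⟨ht, inferInstanceAs (IsIso (𝟙 a.V))⟩, tf⟩, Stk.UppObj.hom_ext hχ.symm ?_⟩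
    show 𝟙 _ ≫ φ.f.bot = (φ.f.bot ≫ inv φ.s.bot) ≫ φ.s.bot
    simp
  ext a b b' f₁ f₂ s hs hfs := by
    obtain ⟨hs1, hs2⟩ := hs
    haveI := hs1; haveI := hs2
    have hbot : f₁.bot = f₂.bot := by
      rw [← cancel_mono s.bot]; exact congrArg (fun t => t.bot) hfs
    let h1 := 𝒮.p.map f₁.top
    let h2 := 𝒮.p.map f₂.top
    obtain ⟨y, t, e, ht, hte⟩ := exists_cart 𝒮 a.x (equalizer.ι h1 h2)
    haveI := ht
    let l := Fork.IsLimit.lift' (isLimitForkMapOfIsLimit u (equalizer.condition h1 h2)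
      (equalizerIsEqualizer h1 h2)) a.φ (by rw [f₁.w, f₂.w, hbot])
    let y' : Stk.UppObj u 𝒮 := ⟨y, a.V, l.1 ≫ u.map (eqToHom e.symm)⟩
    let ts : y' ⟶ a := ⟨t, 𝟙 _, by
      show (l.1 ≫ u.map (eqToHom e.symm)) ≫ u.map (𝒮.p.map t) = 𝟙 _ ≫ a.φ
      rw [hte, Category.assoc, ← u.map_comp, eqToHom_trans_assoc, eqToHom_refl, Category.id_comp,
        Category.id_comp]
      exact l.2⟩
    refine ⟨y', ts, ⟨ht, inferInstanceAs (IsIso (𝟙 a.V))⟩,
      Stk.UppObj.hom_ext ?_ (by show 𝟙 _ ≫ f₁.bot = 𝟙 _ ≫ f₂.bot; rw [hbot])⟩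
    show t ≫ f₁.top = t ≫ f₂.top
    have hp : 𝒮.p.map (t ≫ f₁.top) = 𝒮.p.map (t ≫ f₂.top) := by
      rw [Functor.map_comp, Functor.map_comp, hte, Category.assoc, Category.assoc,
        show equalizer.ι h1 h2 ≫ 𝒮.p.map f₁.top = equalizer.ι h1 h2 ≫ 𝒮.p.map f₂.top from
          equalizer.condition h1 h2]
    haveI : 𝒮.p.IsHomLift (𝒮.p.map (t ≫ f₁.top)) (t ≫ f₂.top) :=
      hp ▸ IsHomLift.map 𝒮.p (t ≫ f₂.top)
    refine Functor.IsStronglyCartesian.ext 𝒮.p (𝒮.p.map s.top) s.top (𝒮.p.map (t ≫ f₁.top)) ?_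
    rw [Category.assoc, Category.assoc]
    exact congrArg (t ≫ ·) (congrArg (fun t => t.top) hfs)

/-- The structure functor of the localisation. -/
noncomputable abbrev upP := Localization.Construction.lift (Stk.UppObj.forget u 𝒮) (Stk.uppR_isInvertedBy u 𝒮)

theorem upP_map {a b : Stk.UppObj u 𝒮} (f : a ⟶ b) :
    (upP u 𝒮).map ((Stk.uppR u 𝒮).Q.map f) = f.bot := by
  simpa using Functor.congr_hom
    (Localization.Construction.fac (Stk.UppObj.forget u 𝒮) (Stk.uppR_isInvertedBy u 𝒮)) f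

theorem exists_fraction [(Stk.uppR u 𝒮).HasRightCalculusOfFractions] {a b : Stk.UppObj u 𝒮}
    (φ : (Stk.uppR u 𝒮).Q.obj b ⟶ (Stk.uppR u 𝒮).Q.obj a) :
    ∃ (b₁ : Stk.UppObj u 𝒮) (s : b₁ ⟶ b) (_ : Stk.uppR u 𝒮 s) (f : b₁ ⟶ a),
      (Stk.uppR u 𝒮).Q.map s ≫ φ = (Stk.uppR u 𝒮).Q.map f ∧
        s.bot ≫ (upP u 𝒮).map φ = f.bot := by
  obtain ⟨r, hr⟩ := Localization.exists_rightFraction (Stk.uppR u 𝒮).Q (Stk.uppR u 𝒮) φ
  have e : (Stk.uppR u 𝒮).Q.map r.s ≫ φ = (Stk.uppR u 𝒮).Q.map r.f := by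
    rw [hr, MorphismProperty.RightFraction.map_s_comp_map]
  refine ⟨_, r.s, r.hs, r.f, e, ?_⟩
  have := congrArg (upP u 𝒮).map e
  rw [Functor.map_comp, upP_map, upP_map] at this
  exact this

theorem isFibered_up [(Stk.uppR u 𝒮).HasRightCalculusOfFractions] : (Stk.up u 𝒮).p.IsFibered := by
  show (upP u 𝒮).IsFibered
  refine Functor.IsFibered.of_exists_isStronglyCartesian ?_
  intro a₀ W g
  obtain ⟨a, rfl⟩ := (Localization.Construction.objEquiv (Stk.uppR u 𝒮)).surjective a₀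
  let L := (Stk.uppR u 𝒮).Q
  have hL := Localization.inverts L (Stk.uppR u 𝒮)
  let a' : Stk.UppObj u 𝒮 := ⟨a.x, W, g ≫ a.φ⟩
  let G : a' ⟶ a := ⟨𝟙 a.x, g, by simp [a']⟩
  haveI hG : (upP u 𝒮).IsHomLift g (L.map G) := by
    have := IsHomLift.map (upP u 𝒮) (L.map G)
    rw [upP_map] at this
    exact this
  refine ⟨L.obj a', L.map G, { toIsHomLift := hG, universal_property' := ?_ }⟩
  intro b₀ h φ hφ
  obtain ⟨b, rfl⟩ := (Localization.Construction.objEquiv (Stk.uppR u 𝒮)).surjective b₀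
  obtain ⟨b₁, s, hs, f, hsf, hbot⟩ := exists_fraction u 𝒮 (a := a) (b := b) φ
  haveI := hs.2
  haveI := hL s hs
  haveI := hφ
  have hpφ : h ≫ g = (upP u 𝒮).map φ := IsHomLift.eq_of_isHomLift (upP u 𝒮) (h ≫ g) φ
  let h' : b.V ⟶ W := h
  have hbot' : f.bot = (s.bot ≫ h') ≫ g := by
    rw [← hbot, ← hpφ]; exact (Category.assoc _ _ _).symm
  let χ₀ : b₁ ⟶ a' := ⟨f.top, s.bot ≫ h', by
    rw [f.w, hbot']; exact Category.assoc _ _ _⟩
  have hχ₀ : χ₀ ≫ G = f := Stk.UppObj.hom_ext (Category.comp_id _) hbot'.symm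
  let χ : L.obj b ⟶ L.obj a' := inv (L.map s) ≫ L.map χ₀
  have hχp : (upP u 𝒮).map χ = h' := by
    rw [← cancel_epi s.bot]
    have e : L.map s ≫ χ = L.map χ₀ := IsIso.hom_inv_id_assoc _ _
    have := congrArg (upP u 𝒮).map e
    rw [Functor.map_comp, upP_map, upP_map] at this
    exact this
  have hχf : χ ≫ L.map G = φ := by
    rw [← cancel_epi (L.map s)]
    simp only [χ, Category.assoc, IsIso.hom_inv_id_assoc]
    rw [← L.map_comp, hχ₀]
    exact hsf.symm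
  refine ⟨χ, ⟨?_, hχf⟩, ?_⟩
  · have := IsHomLift.map (upP u 𝒮) χ
    rw [hχp] at this
    exact this
  rintro χ' ⟨hl, hf'⟩
  haveI := hl
  have hp' : h' = (upP u 𝒮).map χ' := IsHomLift.eq_of_isHomLift (upP u 𝒮) h χ'
  obtain ⟨b₂, r, hr, f₂, hrf, hrbot⟩ := exists_fraction u 𝒮 (a := a') (b := b₁) (L.map s ≫ χ')
  haveI := hL r hr
  rw [← cancel_epi (L.map s), ← cancel_epi (L.map r), hrf]
  simp only [χ, IsIso.hom_inv_id_assoc, ← L.map_comp]
  have hb : f₂.bot = r.bot ≫ χ₀.bot := by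
    rw [← hrbot, Functor.map_comp, upP_map, ← hp']
  have he : L.map (f₂ ≫ G) = L.map ((r ≫ χ₀) ≫ G) := by
    rw [L.map_comp, ← hrf, Category.assoc, Category.assoc, hf', hsf, Category.assoc, hχ₀, L.map_comp]
  obtain ⟨b₃, t, ht, hte⟩ := (MorphismProperty.map_eq_iff_precomp L (Stk.uppR u 𝒮) _ _).1 he
  refine (MorphismProperty.map_eq_iff_precomp L (Stk.uppR u 𝒮) _ _).2
    ⟨b₃, t, ht, Stk.UppObj.hom_ext ?_ ?_⟩
  · have h0 := congrArg (fun t => t.top) hte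
    simp only [Stk.UppObj.comp_top, G] at h0 ⊢
    erw [Category.comp_id, Category.comp_id] at h0
    exact h0
  · show t.bot ≫ f₂.bot = t.bot ≫ r.bot ≫ χ₀.bot
    rw [hb]

theorem isIso_of_isIso_map [(Stk.uppR u 𝒮).HasRightCalculusOfFractions] (h : FibCat.IsFibGrpd 𝒮.p)
    {A B : (Stk.uppR u 𝒮).Localization} (φ : A ⟶ B) (hφ : IsIso ((upP u 𝒮).map φ)) : IsIso φ := by
  obtain ⟨a, rfl⟩ := (Localization.Construction.objEquiv (Stk.uppR u 𝒮)).surjective A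
  obtain ⟨b, rfl⟩ := (Localization.Construction.objEquiv (Stk.uppR u 𝒮)).surjective B
  obtain ⟨b₁, s, hs, f, hsf, hbot⟩ := exists_fraction u 𝒮 (a := b) (b := a) φ
  haveI := hs.2
  haveI := hφ
  haveI := Localization.inverts (Stk.uppR u 𝒮).Q (Stk.uppR u 𝒮) s hs
  have hb : IsIso f.bot := by
    have : IsIso (s.bot ≫ (upP u 𝒮).map φ) := IsIso.comp_isIso
    rwa [hbot] at this
  haveI := Localization.inverts (Stk.uppR u 𝒮).Q (Stk.uppR u 𝒮) f ⟨h.isStronglyCartesian f.top, hb⟩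
  have : IsIso ((Stk.uppR u 𝒮).Q.map s ≫ φ) := by rw [hsf]; infer_instance
  exact IsIso.of_isIso_comp_left ((Stk.uppR u 𝒮).Q.map s) φ

theorem isFibGrpd_up [(Stk.uppR u 𝒮).HasRightCalculusOfFractions] (h : FibCat.IsFibGrpd 𝒮.p) :
    FibCat.IsFibGrpd (Stk.up u 𝒮).p := by
  refine Fib.isFibGrpd_of_isFibered _ (isFibered_up u 𝒮) fun V => ⟨fun {A B} φ => ?_⟩
  show IsIso φ
  haveI hl : (upP u 𝒮).IsHomLift (𝟙 V) φ.1 := φ.2
  suffices IsIso φ.1 from (Fib.fiberIso (Stk.up u 𝒮).p (asIso φ.1) (by simpa using φ.2)).isIso_hom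
  exact isIso_of_isIso_map u 𝒮 h φ.1 (by
    rw [IsHomLift.fac' (upP u 𝒮) (𝟙 V) φ.1]; infer_instance)

end Groth.Agent.StkUpp
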